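/-
Equivalence relations in presheaves and sheaves of sets are universally effective.
-/
import Mathlib

set_option backward.isDefEq.respectTransparency false
set_option backward.isDefEq.respectTransparency.types false
set_option autoImplicit false

universe w v₁ u₁

open CategoryTheory Category Limits Opposite

namespace Groth.Agent.EquivRelSh

section Presheaf

variable {C : Type u₁} [Category.{v₁} C] {R X : Cᵒᵖ ⥤ Type w} {p₁ p₂ : R ⟶ X}

theorem jointlyMono_app [h : JointlyMono₂ p₁ p₂] (c : Cᵒᵖ) : JointlyMono₂ (p₁.app c) (p₂.app c) := by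
  haveI : Mono (prod.lift p₁ p₂) := ⟨fun f g hfg => h.right_cancellation f g
    (by simpa using hfg =≫ prod.fst) (by simpa using hfg =≫ prod.snd)⟩
  haveI : Mono ((prod.lift p₁ p₂).app c) := inferInstance
  refine ⟨fun Y f g h₁ h₂ => ?_⟩
  rw [← cancel_mono ((prod.lift p₁ p₂).app c)]
  haveI : PreservesLimit (pair X X) ((evaluation Cᵒᵖ (Type w)).obj c) := inferInstance
  refine BinaryFan.IsLimit.hom_ext (mapIsLimitOfPreservesOfIsLimit ((evaluation Cᵒᵖ (Type w)).obj c) _ _
    (prodIsProd X X)) ?_ ?_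
  · change (f ≫ (prod.lift p₁ p₂).app c) ≫ (prod.fst : X ⨯ X ⟶ X).app c = (g ≫ _) ≫ (prod.fst : X ⨯ X ⟶ X).app c
    rw [Category.assoc, Category.assoc, ← NatTrans.comp_app, prod.lift_fst]
    exact h₁
  · change (f ≫ (prod.lift p₁ p₂).app c) ≫ (prod.snd : X ⨯ X ⟶ X).app c = (g ≫ _) ≫ (prod.snd : X ⨯ X ⟶ X).app c
    rw [Category.assoc, Category.assoc, ← NatTrans.comp_app, prod.lift_snd]
    exact h₂

variable (e : EquivalenceRelation p₁ p₂)

include e in
theorem equivalence_app (c : Cᵒᵖ) : Equivalence (TypeCat.Rel.ofPair (p₁.app c) (p₂.app c)) := by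
  haveI := e.toReflexiveRelation.toJointlyMono₂
  let F := (evaluation Cᵒᵖ (Type w)).obj c
  haveI : JointlyMono₂ (F.map p₁) (F.map p₂) := jointlyMono_app c
  exact TypeCat.equivalence_of_equivalenceRelation
    ({ __ := e.toReflexiveRelation.map F
       __ := e.toSymmetricRelation.map F
       __ := e.toTransitiveRelation.map F } : EquivalenceRelation (p₁.app c) (p₂.app c))

/-- The quotient presheaf. -/
def quot (p₁ p₂ : R ⟶ X) : Cᵒᵖ ⥤ Type w where
  obj c := Quot (TypeCat.Rel.ofPair (p₁.app c) (p₂.app c))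
  map f := ↾Quot.lift (fun x => Quot.mk _ (X.map f x)) (by
    rintro _ _ ⟨r, rfl, rfl⟩
    exact Quot.sound ⟨R.map f r, NatTrans.naturality_apply p₁ f r, NatTrans.naturality_apply p₂ f r⟩)
  map_id c := by
    ext q
    induction q using Quot.ind with
    | mk x => exact congrArg (Quot.mk _) (by simp)
  map_comp f g := by
    ext q
    induction q using Quot.ind with
    | mk x => exact congrArg (Quot.mk _) (by simp)

/-- The quotient map. -/
def quotπ (p₁ p₂ : R ⟶ X) : X ⟶ quot p₁ p₂ where
  app c := ↾Quot.mk _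
  naturality c d f := rfl

theorem quot_w : p₁ ≫ quotπ p₁ p₂ = p₂ ≫ quotπ p₁ p₂ := by
  ext c r
  exact Quot.sound ⟨r, rfl, rfl⟩

include e in
theorem isKernelPair : IsKernelPair (quotπ p₁ p₂) p₁ p₂ := by
  haveI := e.toReflexiveRelation.toJointlyMono₂
  refine IsPullback.of_isLimit' ⟨quot_w⟩ (evaluationJointlyReflectsLimits _ fun c => ?_)
  refine (isLimitMapConePullbackConeEquiv ((evaluation Cᵒᵖ (Type w)).obj c) quot_w).symm ?_
  refine IsPullback.isLimit (?_ : IsPullback (p₁.app c) (p₂.app c) ((quotπ p₁ p₂).app c) ((quotπ p₁ p₂).app c))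
  rw [Types.isPullback_iff]
  refine ⟨NatTrans.congr_app quot_w c, fun a b hab => ?_, fun a b hab => ?_⟩
  · have h := (jointlyMono_app (p₁ := p₁) (p₂ := p₂) c).right_cancellation (Y := PUnit.{w + 1})
      (↾fun _ => a) (↾fun _ => b) (by ext; exact hab.1) (by ext; exact hab.2)
    exact ConcreteCategory.congr_hom h PUnit.unit
  · have h := Quot.eqvGen_exact hab
    rw [(equivalence_app e c).eqvGen_iff] at h
    exact h

include e in
theorem isPushout : IsPushout p₁ p₂ (quotπ p₁ p₂) (quotπ p₁ p₂) := by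
  refine IsPushout.of_isColimit' ⟨quot_w⟩ (evaluationJointlyReflectsColimits _ fun c => ?_)
  refine (isColimitMapCoconePushoutCoconeEquiv ((evaluation Cᵒᵖ (Type w)).obj c) quot_w).symm ?_
  have heq : ∀ (s : PushoutCocone (p₁.app c) (p₂.app c)) (x : X.obj c), s.inl x = s.inr x := fun s x => by
    have h := ConcreteCategory.congr_hom s.condition (e.r.app c x)
    have h1 : p₁.app c (e.r.app c x) = x := ConcreteCategory.congr_hom (NatTrans.congr_app e.reflexivity₁ c) x
    have h2 : p₂.app c (e.r.app c x) = x := ConcreteCategory.congr_hom (NatTrans.congr_app e.reflexivity₂ c) x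
    simpa [h1, h2] using h
  exact PushoutCocone.IsColimit.mk _ (fun s => ↾Quot.lift (fun x => s.inl x) (by
      rintro _ _ ⟨r, rfl, rfl⟩
      have h := ConcreteCategory.congr_hom s.condition r
      exact h.trans (heq s _).symm))
    (fun s => rfl) (fun s => by ext x; exact heq s x) (fun s m hm _ => by
      ext q
      induction q using Quot.ind with
      | mk x => exact ConcreteCategory.congr_hom hm x)

theorem epi_of_isPullback {P B A Q : Cᵒᵖ ⥤ Type w} {fst : P ⟶ B} {snd : P ⟶ A} {f : B ⟶ Q} {g : A ⟶ Q}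
    (h : IsPullback fst snd f g) [Epi f] : Epi snd := by
  haveI : ∀ c, Epi (snd.app c) := fun c => by
    rw [CategoryTheory.epi_iff_surjective]
    intro a
    obtain ⟨b, hb⟩ := (CategoryTheory.epi_iff_surjective (f.app c)).1 inferInstance (g.app c a)
    obtain ⟨x, -, hx⟩ := ((Types.isPullback_iff _ _ _ _).1 (h.map ((evaluation Cᵒᵖ (Type w)).obj c))).2.2 b a hb
    exact ⟨x, hx⟩
  exact NatTrans.epi_of_epi_app _

theorem effectiveEpi_of_epi {A Q : Cᵒᵖ ⥤ Type w} (f : A ⟶ Q) [Epi f] : EffectiveEpi f := by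
  rw [← isRegularEpi_iff_effectiveEpi]
  exact IsRegularEpiCategory.regularEpiOfEpi f

theorem universallyEffective_presheaf [h : IsEquivalenceRelation p₁ p₂] :
    IsUniversallyEffectiveEquivalenceRelation p₁ p₂ := by
  obtain ⟨e⟩ := h.nonempty_equivalenceRelation
  refine ⟨⟨{ toEquivalenceRelation := e
             B := quot p₁ p₂
             π := quotπ p₁ p₂
             isKernelPair := isKernelPair e
             isPushout := isPushout e
             universally_effectiveEpi_π := ?_ }⟩⟩
  intro P A snd g fst hsq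
  haveI : ∀ c, Epi ((quotπ p₁ p₂).app c) := fun c =>
    (CategoryTheory.epi_iff_surjective _).2 fun q => Quot.exists_rep q
  haveI : Epi (quotπ p₁ p₂) := NatTrans.epi_of_epi_app _
  haveI := epi_of_isPullback hsq.flip
  exact effectiveEpi_of_epi fst

end Presheaf

section Sheaf

variable {C : Type u₁} [Category.{v₁} C] (J : GrothendieckTopology C) [HasSheafify J (Type w)]

theorem epi_of_isPullback_sheaf {P B A Q : Sheaf J (Type w)} {fst : P ⟶ B} {snd : P ⟶ A} {f : B ⟶ Q} {g : A ⟶ Q}
    (h : IsPullback fst snd f g) [hf : Epi f] : Epi snd := by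
  rw [← Sheaf.isLocallySurjective_iff_epi] at hf ⊢
  refine ⟨fun {U} a => J.superset_covering ?_ (Presheaf.imageSieve_mem J f.hom (g.hom.app (op U) a))⟩
  rintro V i ⟨b, hb⟩
  obtain ⟨x, -, hx⟩ := ((Types.isPullback_iff _ _ _ _).1 ((h.map (sheafToPresheaf J (Type w))).map
    ((evaluation Cᵒᵖ (Type w)).obj (op V)))).2.2 b (A.obj.map i.op a)
    (hb.trans (NatTrans.naturality_apply g.hom i.op a).symm)
  exact ⟨x, hx⟩

theorem universallyEffective_sheaf {R X : Sheaf J (Type w)} (p₁ p₂ : R ⟶ X) [h : IsEquivalenceRelation p₁ p₂] :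
    IsUniversallyEffectiveEquivalenceRelation p₁ p₂ := by
  obtain ⟨e⟩ := h.nonempty_equivalenceRelation
  haveI := e.toReflexiveRelation.toJointlyMono₂
  let U := sheafToPresheaf J (Type w)
  let a := presheafToSheaf J (Type w)
  haveI : JointlyMono₂ (U.map p₁) (U.map p₂) := ⟨fun Y f g h₁ h₂ => by
    obtain ⟨f', rfl⟩ := ((sheafificationAdjunction J (Type w)).homEquiv Y R).surjective f
    obtain ⟨g', rfl⟩ := ((sheafificationAdjunction J (Type w)).homEquiv Y R).surjective g
    rw [← Adjunction.homEquiv_naturality_right, ← Adjunction.homEquiv_naturality_right] at h₁ h₂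
    exact congrArg _ (JointlyMono₂.right_cancellation (p₁ := p₁) (p₂ := p₂) f' g' (Equiv.injective _ h₁)
      (Equiv.injective _ h₂))⟩
  let e' : EquivalenceRelation (U.map p₁) (U.map p₂) :=
    { __ := e.toReflexiveRelation.map U
      __ := e.toSymmetricRelation.map U
      __ := e.toTransitiveRelation.map U }
  let ε := fun S : Sheaf J (Type w) => asIso ((sheafificationAdjunction J (Type w)).counit.app S)
  let B := a.obj (quot (U.map p₁) (U.map p₂))
  let π : X ⟶ B := (ε X).inv ≫ a.map (quotπ (U.map p₁) (U.map p₂))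
  have hn : ∀ p : R ⟶ X, a.map (U.map p) ≫ (ε X).hom = (ε R).hom ≫ p := fun p =>
    (sheafificationAdjunction J (Type w)).counit_naturality p
  have hπ : a.map (quotπ (U.map p₁) (U.map p₂)) = (ε X).hom ≫ π := by simp [π]
  have hk : IsKernelPair π p₁ p₂ :=
    ((isKernelPair e').map a).of_iso (ε R) (ε X) (ε X) (Iso.refl B) (hn p₁) (hn p₂)
      ((Category.comp_id _).trans hπ) ((Category.comp_id _).trans hπ)
  have hp : IsPushout p₁ p₂ π π :=
    ((isPushout e').map a).of_iso (ε R) (ε X) (ε X) (Iso.refl B) (hn p₁) (hn p₂)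
      ((Category.comp_id _).trans hπ) ((Category.comp_id _).trans hπ)
  refine ⟨⟨{ toEquivalenceRelation := e, B := B, π := π, isKernelPair := hk, isPushout := hp,
             universally_effectiveEpi_π := ?_ }⟩⟩
  intro P A snd g fst hsq
  haveI : ∀ c, Epi ((quotπ (U.map p₁) (U.map p₂)).app c) := fun c =>
    (CategoryTheory.epi_iff_surjective _).2 fun q => Quot.exists_rep q
  haveI : Epi (quotπ (U.map p₁) (U.map p₂)) := NatTrans.epi_of_epi_app _
  haveI : Epi π := epi_comp _ _
  haveI := epi_of_isPullback_sheaf J hsq.flip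
  rw [← isRegularEpi_iff_effectiveEpi]
  exact IsRegularEpiCategory.regularEpiOfEpi fst

end Sheaf

end Groth.Agent.EquivRelSh
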